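import Cfsg.Agent.GeomClasses.OrthEven.Exclusions
import Cfsg.Agent.GeomClasses.OrthTools

/-! # Maximal subgroups of the orthogonal group of minus type in dimension eight -/

set_option autoImplicit false
set_option maxHeartbeats 600000

namespace Cfsg.Agent.GeomClasses.OrthEven

open Matrix Cfsg.Geo Module
open scoped commutatorElement
open Cfsg.Agent.GeomClasses.AschRel
open Cfsg.Agent.GeomClasses.Asch (Irr Normalises conjHom conjHom_apply)

variable {F : Type*} [Field F] [Fintype F] {ι : Type} [Fintype ι] [DecidableEq ι] {Q : QuadraticForm F (ι → F)}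

local notation "fQ" => matForm (RingEquiv.refl F) (polarGram Q)

omit [Fintype F] in
theorem subgroup_eq_of_le {H M : Subgroup (GL ι F)} (hH : IsMaximalIn (omegaGL ⇑Q) H) (hle : H ≤ M)
    (hn : ¬ omegaGL ⇑Q ≤ M) : H = M ⊓ omegaGL ⇑Q :=
  ((hH.2 (M ⊓ omegaGL ⇑Q) (le_inf hle hH.1.le) inf_le_right).resolve_right fun h => hn (h ▸ inf_le_left)).symm

/-- A non-degenerate subspace has even dimension in characteristic two. -/
theorem even_finrank_of_nondeg (h20 : (2 : F) = 0) {W : Submodule F (ι → F)}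
    (hW : IsNondegenerateOn fQ W) : Even (finrank F W) := by
  have halt : (LinearMap.BilinForm.restrict (QuadraticMap.polarBilin Q) W).IsAlt := fun w => by
    show QuadraticMap.polarBilin Q (w : ι → F) (w : ι → F) = 0
    rw [QuadraticMap.polarBilin_apply_apply, Forms.polar_self_two_mul, h20, zero_mul]
  have hl : ∀ u : W, (∀ v : W, QuadraticMap.polar (⇑Q) (u : ι → F) (v : ι → F) = 0) → u = 0 := by
    intro u hu
    by_contra h0
    obtain ⟨-, x, hx, hne⟩ := hW u u.2 fun h => h0 (Subtype.ext h)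
    exact hne (by rw [← polar_eq_form]; exact hu ⟨x, hx⟩)
  have hI := Forms.isForm_alt (LinearMap.BilinForm.restrict (QuadraticMap.polarBilin Q) W)
    ⟨fun u hu => hl u fun v => hu v, fun u hu => hl u fun v => by
      rw [QuadraticMap.polar_comm]; exact hu v⟩ halt
  obtain ⟨k, -, hk, -⟩ := Forms.exists_symp_family hI
  exact ⟨k, by omega⟩

/-- Eight as a proper power. -/
theorem pow_eq_eight {d t : ℕ} (hd : 2 ≤ d) (ht : 2 ≤ t) (h : d ^ t = 8) : d = 2 ∧ t = 3 := by
  have h1 : d ^ 2 ≤ 8 := h ▸ Nat.pow_le_pow_right (by omega) ht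
  have hd2 : d = 2 := by nlinarith
  subst hd2
  exact ⟨rfl, Nat.pow_right_injective le_rfl (h.trans (by norm_num : (8 : ℕ) = 2 ^ 3))⟩

/-- The stabilisers of subspaces. -/
theorem reducible_outcome (hQ : (QuadraticMap.polarBilin Q).Nondegenerate) (hn : Fintype.card ι = 8)
    {H : Subgroup (GL ι F)} (hH : IsMaximalIn (omegaGL ⇑Q) H)
    (hirr : ¬ Irr ((fun u : (Module.End F (ι → F))ˣ => (u : Module.End F (ι → F))) ''
      (gu '' (↑(H ⊔ scalars ι F) : Set _)))) :
    (∃ W : Submodule F (ι → F), W ≠ ⊥ ∧ IsTotallySingularQuad (⇑Q) W ∧ H = subspaceStabilizer W ⊓ omegaGL ⇑Q) ∨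
    (Odd (Fintype.card F) ∧ ∃ W : Submodule F (ι → F), W ≠ ⊥ ∧ W ≠ ⊤ ∧ Odd (finrank F W) ∧
      IsNondegenerateOn (QuadraticMap.polar ⇑Q) W ∧ H = subspaceStabilizer W ⊓ omegaGL ⇑Q) ∨
    (∃ W : Submodule F (ι → F), finrank F W = 2 ∧ IsNondegenerateOn (QuadraticMap.polar ⇑Q) W ∧
      ¬ IsPlusTypeOn (⇑Q) W ∧ H = subspaceStabilizer W ⊓ omegaGL ⇑Q) ∨
    (4 ≤ Fintype.card F ∧ ∃ W : Submodule F (ι → F), finrank F W = 2 ∧ IsNondegenerateOn (QuadraticMap.polar ⇑Q) W ∧
      IsPlusTypeOn (⇑Q) W ∧ H = subspaceStabilizer W ⊓ omegaGL ⇑Q) ∨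
    (∃ W : Submodule F (ι → F), finrank F W = 4 ∧ IsNondegenerateOn (QuadraticMap.polar ⇑Q) W ∧
      H = subspaceStabilizer W ⊓ omegaGL ⇑Q) ∨
    (¬ Odd (Fintype.card F) ∧ ∃ v : ι → F, Q v ≠ 0 ∧
      H = subspaceStabilizer (Submodule.span F {v}) ⊓ omegaGL ⇑Q) := by
  classical
  have hn7 : 7 ≤ Fintype.card ι := by omega
  haveI : Nonempty ι := Fintype.card_pos_iff.mp (by omega)
  have hI : ∀ g ∈ H, ∀ v, Q ((g : Matrix ι ι F) *ᵥ v) = Q v := fun g hg v => omegaGL_preserves Q (hH.1.le hg) v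
  have hB := formData Q hQ
  have hff : fQ = QuadraticMap.polar ⇑Q := funext fun u => funext fun v => (polar_eq_form Q u v).symm
  have heq : ∀ W : Submodule F (ι → F), W ≠ ⊥ → W ≠ ⊤ → H ≤ subspaceStabilizer W →
      H = subspaceStabilizer W ⊓ omegaGL ⇑Q := fun W h0 h1 hle =>
    subgroup_eq_of_le hH hle (not_le_subspace hQ hn7 h0 h1)
  rcases reducible_cases hB (sim_of_iso Q hI) hirr with
    ⟨W, hW0, hW, hKW⟩ | ⟨W, W', hW0, hW1, hW'0, hW'1, hW, hW', -, hinf, hsup, hKW, hKW'⟩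
  · have hHW : H ≤ subspaceStabilizer W := le_sup_left.trans hKW
    have hWtop : W ≠ ⊤ := by
      rintro rfl
      haveI : Nonempty ι := Fintype.card_pos_iff.mp (by omega)
      obtain ⟨v, hv⟩ := exists_ne (0 : ι → F)
      obtain ⟨⟨x, hx⟩, -⟩ := nondeg_matForm (σ := RingEquiv.refl F) hB.unit v hv
      exact hx (hW x trivial v trivial)
    have hQadd : ∀ a ∈ W, ∀ c ∈ W, Q (a + c) = Q a + Q c := fun a ha c hc => by
      rw [QuadraticMap.map_add Q a c, polar_eq_form, hW a ha c hc, add_zero]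
    let U : Submodule F (ι → F) :=
      { carrier := {w | w ∈ W ∧ Q w = 0}
        add_mem' := fun {a c} ha hc => ⟨add_mem ha.1 hc.1, by rw [hQadd a ha.1 c hc.1, ha.2, hc.2, add_zero]⟩
        zero_mem' := ⟨zero_mem _, QuadraticMap.map_zero Q⟩
        smul_mem' := fun a w hw => ⟨Submodule.smul_mem _ a hw.1, by rw [QuadraticMap.map_smul, hw.2, smul_zero]⟩ }
    by_cases hU : U = ⊥
    swap
    · refine Or.inl ⟨U, hU, fun w hw => hw.2, heq U hU (fun h => hWtop (eq_top_iff.mpr fun v _ => (h ▸ trivial : v ∈ U).1))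
        fun g hg => ?_⟩
      rw [mem_subspaceStabilizer_iff]
      exact fun w hw => ⟨mem_subspaceStabilizer_iff.mp (hHW hg) w hw.1, by rw [hI g hg]; exact hw.2⟩
    obtain ⟨x, hx, hx0⟩ := Submodule.exists_mem_ne_zero_of_ne_bot hW0
    have hbot : ∀ z ∈ W, Q z = 0 → z = 0 := fun z hz hQz => by
      have : z ∈ U := ⟨hz, hQz⟩
      rwa [hU, Submodule.mem_bot] at this
    have hQx : Q x ≠ 0 := fun h => hx0 (hbot x hx h)
    have h20 : (2 : F) = 0 := by
      have := hW x hx x hx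
      rw [← polar_eq_form, Forms.polar_self_two_mul] at this
      exact (mul_eq_zero.mp this).resolve_right hQx
    have hc2 : ringChar F = 2 := by
      haveI : CharP F 2 := (CharP.charP_iff_prime_eq_zero Nat.prime_two).mpr (by exact_mod_cast h20)
      exact ringChar.eq F 2
    have hWx : W = Submodule.span F {x} := by
      refine le_antisymm (fun z hz => ?_) ((Submodule.span_singleton_le_iff_mem _ _).mpr hx)
      obtain ⟨s, hs⟩ := FiniteField.isSquare_of_char_two hc2 (Q z / Q x)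
      have := hbot (z + s • x) (add_mem hz (Submodule.smul_mem _ _ hx)) (by
        rw [hQadd z hz _ (Submodule.smul_mem _ _ hx), QuadraticMap.map_smul, smul_eq_mul, ← hs,
          div_mul_cancel₀ _ hQx, ← two_mul, h20, zero_mul])
      rw [eq_neg_of_add_eq_zero_left this]
      exact neg_mem (Submodule.smul_mem _ _ (Submodule.mem_span_singleton_self x))
    iterate 5 right
    refine ⟨fun ho => two_ne_zero_of_odd_card ho h20, x, hQx, ?_⟩
    rw [← hWx]
    exact heq W hW0 hWtop hHW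
  have hfr : finrank F W + finrank F W' = 8 := by
    have h1 := Submodule.finrank_sup_add_finrank_inf_eq W W'
    rw [hinf, hsup, finrank_top, finrank_bot, finrank_pi] at h1
    omega
  have hpos : finrank F W ≠ 0 := fun h => hW0 (Submodule.finrank_eq_zero.mp h)
  have hpos' : finrank F W' ≠ 0 := fun h => hW'0 (Submodule.finrank_eq_zero.mp h)
  rw [hff] at hW hW'
  rcases Nat.even_or_odd (finrank F W) with he | ho
  swap
  · refine Or.inr (Or.inl ⟨?_, W, hW0, hW1, ho, hW, heq W hW0 hW1 (le_sup_left.trans hKW)⟩)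
    by_contra hq
    have h20 : (2 : F) = 0 := by
      have hev : Fintype.card F % 2 = 0 := Nat.not_odd_iff.mp hq
      haveI : CharP F 2 := ringChar.of_eq (FiniteField.even_card_iff_char_two.mpr hev)
      exact CharTwo.two_eq_zero
    exact Nat.not_even_iff_odd.mpr ho (even_finrank_of_nondeg h20 (hff ▸ hW))
  have plane : ∀ X : Submodule F (ι → F), X ≠ ⊥ → X ≠ ⊤ → finrank F X = 2 →
      IsNondegenerateOn (QuadraticMap.polar ⇑Q) X → H ≤ subspaceStabilizer X →
      (∃ W : Submodule F (ι → F), finrank F W = 2 ∧ IsNondegenerateOn (QuadraticMap.polar ⇑Q) W ∧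
        ¬ IsPlusTypeOn (⇑Q) W ∧ H = subspaceStabilizer W ⊓ omegaGL ⇑Q) ∨
      (4 ≤ Fintype.card F ∧ ∃ W : Submodule F (ι → F), finrank F W = 2 ∧ IsNondegenerateOn (QuadraticMap.polar ⇑Q) W ∧
        IsPlusTypeOn (⇑Q) W ∧ H = subspaceStabilizer W ⊓ omegaGL ⇑Q) := by
    intro X h0 h1 h2 hX hle
    by_cases hp : IsPlusTypeOn (⇑Q) X
    swap
    · exact Or.inl ⟨X, h2, hX, hp, heq X h0 h1 hle⟩
    by_cases hq : 4 ≤ Fintype.card F
    · exact Or.inr ⟨hq, X, h2, hX, hp, heq X h0 h1 hle⟩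
    exfalso
    obtain ⟨K, hK1, hK2⟩ := exists_between_plane Q (by omega) h2 hX hp (by omega) hQ
    have hHK : H ≤ K := (le_inf hle hH.1.le).trans hK1.le
    rcases hH.2 K hHK hK2.le with h | h
    · exact hK1.not_ge (h ▸ le_inf hle hH.1.le)
    · exact hK2.ne h
  have h246 : finrank F W = 2 ∨ finrank F W = 4 ∨ finrank F W' = 2 := by
    obtain ⟨k, hk⟩ := he
    omega
  rcases h246 with h | h | h
  · rcases plane W hW0 hW1 h hW (le_sup_left.trans hKW) with h' | h'
    · exact Or.inr (Or.inr (Or.inl h'))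
    · exact Or.inr (Or.inr (Or.inr (Or.inl h')))
  · exact Or.inr (Or.inr (Or.inr (Or.inr (Or.inl ⟨W, h, hW, heq W hW0 hW1 (le_sup_left.trans hKW)⟩))))
  · rcases plane W' hW'0 hW'1 h hW' (le_sup_left.trans hKW') with h' | h'
    · exact Or.inr (Or.inr (Or.inl h'))
    · exact Or.inr (Or.inr (Or.inr (Or.inl h')))

/-- A normalised commutative algebra gives a quadratic field. -/
theorem comm_outcome (hQ : (QuadraticMap.polarBilin Q).Nondegenerate) (hn : Fintype.card ι = 8)
    (hno : NoSingular Q 4) {H : Subgroup (GL ι F)} (hH : IsMaximalIn (omegaGL ⇑Q) H)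
    (hirr : Irr ((fun u : (Module.End F (ι → F))ˣ => (u : Module.End F (ι → F))) ''
      (gu '' (↑(H ⊔ scalars ι F) : Set _))))
    {E : Subalgebra F (Module.End F (ι → F))} (hcomm : ∀ x ∈ E, ∀ y ∈ E, x * y = y * x)
    (hnorm : ∀ g ∈ H ⊔ scalars ι F, Normalises E (gu g)) (hcl : ∀ x ∈ E, st (RingEquiv.refl F) (polarGram Q) x ∈ E)
    (hbig : ∃ x ∈ E, ∀ c : F, x ≠ algebraMap F _ c) :
    ∃ K : Subalgebra F (Matrix ι ι F), IsFieldSubalgebra 2 K ∧ H = subalgebraNormalizer K ⊓ omegaGL ⇑Q := by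
  classical
  haveI : Nontrivial ι := Fintype.one_lt_card_iff_nontrivial.mp (by omega)
  have hI : ∀ g ∈ H, ∀ v, Q ((g : Matrix ι ι F) *ᵥ v) = Q v := fun g hg v => omegaGL_preserves Q (hH.1.le hg) v
  have hirr' := fun W hW => irred_of_irr hirr (W := W) hW
  rcases blocks_or_field (formData Q hQ) (sim_of_iso Q hI) hirr hcomm hnorm hcl with
    ⟨t, k, D, hD, -, htr⟩ | ⟨k, D, hk, hD, hts, hK⟩ | hinv
  · have htk : t * k = 8 := by
      have hd := hD.decomp
      have hint := DirectSum.isInternal_submodule_of_iSupIndep_of_iSup_eq_top hd.indep hd.iSup_eq_top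
      have := Module.finrank_eq_card_basis (hint.collectedBasis fun i => Module.finBasisOfFinrankEq F (D i) (hd.finrank_eq i))
      rw [finrank_pi, hn, Fintype.card_sigma] at this
      simp at this
      omega
    have ht : Even t := by
      have h2 := hD.decomp.two_le
      have hd8 : t ∣ 8 := ⟨k, htk.symm⟩
      have := Nat.le_of_dvd (by norm_num) hd8
      interval_cases t <;> first | decide | omega
    exact (blocks_false hQ (m := 4) (by omega) (by decide) (by norm_num) hno hI hD htr ht).elim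
  · exact (halves_false (m := 4) (by omega) (by norm_num) hno (by norm_num) hI hirr' hk hD hts hK).elim
  obtain ⟨r, L, hr, hLE, hfin, hLinv, hLN⟩ := Asch.exists_prime_subfield hcomm hinv hbig
  obtain rfl : r = 2 := by
    letI : CommRing L := { (inferInstance : Ring L) with mul_comm := fun a b => Subtype.ext (hcomm a (hLE a.2) b (hLE b.2)) }
    haveI : Nontrivial L := ⟨0, 1, fun h => zero_ne_one (congrArg Subtype.val h)⟩
    have hLF : IsField L := ⟨⟨0, 1, zero_ne_one⟩, mul_comm, fun {a} ha => by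
      obtain ⟨y, hy, hxy⟩ := hLinv a a.2 fun h => ha (Subtype.ext h)
      exact ⟨⟨y, hy⟩, Subtype.ext hxy⟩⟩
    letI : Field L := hLF.toField
    haveI : IsScalarTower F L (ι → F) := ⟨fun c a v => rfl⟩
    have hdvd : r ∣ 8 := by
      refine ⟨Module.finrank L (ι → F), ?_⟩
      rw [← hfin, Module.finrank_mul_finrank, Module.finrank_fintype_fun_eq_card, hn]
    exact (Nat.prime_dvd_prime_iff_eq hr Nat.prime_two).mp (hr.dvd_of_dvd_pow (n := 3) hdvd)
  let Φ : Module.End F (ι → F) ≃ₐ[F] Matrix ι ι F := LinearMap.toMatrixAlgEquiv'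
  let L' : Subalgebra F (Matrix ι ι F) := L.map Φ.toAlgHom
  have hmem : ∀ x, x ∈ L' ↔ Φ.symm x ∈ L := fun x =>
    ⟨by rintro ⟨y, hy, rfl⟩; simpa using hy, fun h => ⟨_, h, Φ.apply_symm_apply x⟩⟩
  have hfield : IsFieldSubalgebra 2 L' := by
    refine ⟨fun x hx y hy => ?_, fun x hx hx0 => ?_, ?_⟩
    · apply Φ.symm.injective
      rw [map_mul, map_mul]
      exact hcomm _ (hLE ((hmem x).mp hx)) _ (hLE ((hmem y).mp hy))
    · obtain ⟨y, hy, hxy⟩ := hLinv _ ((hmem x).mp hx) (by simpa using hx0)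
      refine ⟨Φ y, (hmem _).mpr (by simpa using hy), Φ.symm.injective ?_⟩
      simpa using hxy
    · rw [← hfin]
      exact (L.equivMapOfInjective Φ.toAlgHom Φ.injective).toLinearEquiv.finrank_eq.symm
  refine ⟨L', hfield, subgroup_eq_of_le hH (fun g hg k => ?_) (not_le_field hQ (by omega) le_rfl hfield)⟩
  rw [hmem, hmem, hLN (gu g) (hnorm g (Subgroup.mem_sup_left hg)), map_mul, map_mul, ← map_inv]
  rfl

/-- The list of maximal subgroups. -/
theorem eight_minus_cases (hQ : (QuadraticMap.polarBilin Q).Nondegenerate) (hn : Fintype.card ι = 8)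
    (hminus : ¬ IsPlusTypeOn (⇑Q) ⊤) {H : Subgroup (GL ι F)} (hH : IsMaximalIn (omegaGL ⇑Q) H) :
    (∃ W : Submodule F (ι → F), W ≠ ⊥ ∧ IsTotallySingularQuad (⇑Q) W ∧ H = subspaceStabilizer W ⊓ omegaGL ⇑Q) ∨
    (Odd (Fintype.card F) ∧ ∃ W : Submodule F (ι → F), W ≠ ⊥ ∧ W ≠ ⊤ ∧ Odd (finrank F W) ∧
      IsNondegenerateOn (QuadraticMap.polar ⇑Q) W ∧ H = subspaceStabilizer W ⊓ omegaGL ⇑Q) ∨
    (∃ W : Submodule F (ι → F), finrank F W = 2 ∧ IsNondegenerateOn (QuadraticMap.polar ⇑Q) W ∧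
      ¬ IsPlusTypeOn (⇑Q) W ∧ H = subspaceStabilizer W ⊓ omegaGL ⇑Q) ∨
    (4 ≤ Fintype.card F ∧ ∃ W : Submodule F (ι → F), finrank F W = 2 ∧ IsNondegenerateOn (QuadraticMap.polar ⇑Q) W ∧
      IsPlusTypeOn (⇑Q) W ∧ H = subspaceStabilizer W ⊓ omegaGL ⇑Q) ∨
    (∃ W : Submodule F (ι → F), finrank F W = 4 ∧ IsNondegenerateOn (QuadraticMap.polar ⇑Q) W ∧
      H = subspaceStabilizer W ⊓ omegaGL ⇑Q) ∨
    (¬ Odd (Fintype.card F) ∧ ∃ v : ι → F, Q v ≠ 0 ∧
      H = subspaceStabilizer (Submodule.span F {v}) ⊓ omegaGL ⇑Q) ∨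
    (∃ K : Subalgebra F (Matrix ι ι F), IsFieldSubalgebra 2 K ∧ H = subalgebraNormalizer K ⊓ omegaGL ⇑Q) ∨
    (∃ (F₀ : Subfield F) (r : ℕ) (P : GL ι F) (ζ : F), r.Prime ∧ Odd r ∧ Fintype.card F = Nat.card F₀ ^ r ∧ ζ ≠ 0 ∧
      IsQuadFormRationalStructure (fun v : ι → F => ζ * Q v) F₀ P ∧ H = subfieldSubgroup F₀ P ⊓ omegaGL ⇑Q) ∨
    InOrthogonalResidualClass H := by
  classical
  haveI : Nontrivial ι := Fintype.one_lt_card_iff_nontrivial.mp (by omega)
  haveI : Nonempty ι := inferInstance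
  have hno : NoSingular Q 4 := fun U hU hUd =>
    hminus ⟨U, le_top, hU, by rw [hUd, finrank_top, finrank_pi, hn]⟩
  have hI : ∀ g ∈ H, ∀ v, Q ((g : Matrix ι ι F) *ᵥ v) = Q v := fun g hg v => omegaGL_preserves Q (hH.1.le hg) v
  by_cases hirr : Irr ((fun u : (Module.End F (ι → F))ˣ => (u : Module.End F (ι → F))) ''
      (gu '' (↑(H ⊔ scalars ι F) : Set _)))
  swap
  · rcases reducible_outcome hQ hn hH hirr with h | h | h | h | h | h
    · exact Or.inl h
    · exact Or.inr (Or.inl h)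
    · exact Or.inr (Or.inr (Or.inl h))
    · exact Or.inr (Or.inr (Or.inr (Or.inl h)))
    · exact Or.inr (Or.inr (Or.inr (Or.inr (Or.inl h))))
    · exact Or.inr (Or.inr (Or.inr (Or.inr (Or.inr (Or.inl h)))))
  by_cases hfield : ∃ K : Subalgebra F (Matrix ι ι F), IsFieldSubalgebra 2 K ∧
      H = subalgebraNormalizer K ⊓ omegaGL ⇑Q
  · exact Or.inr (Or.inr (Or.inr (Or.inr (Or.inr (Or.inr (Or.inl hfield))))))
  by_cases hsub : ∃ (F₀ : Subfield F) (r : ℕ) (P : GL ι F) (ζ : F), r.Prime ∧ Odd r ∧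
      Fintype.card F = Nat.card F₀ ^ r ∧ ζ ≠ 0 ∧
      IsQuadFormRationalStructure (fun v : ι → F => ζ * Q v) F₀ P ∧ H = subfieldSubgroup F₀ P ⊓ omegaGL ⇑Q
  · exact Or.inr (Or.inr (Or.inr (Or.inr (Or.inr (Or.inr (Or.inr (Or.inl hsub)))))))
  iterate 8 right
  have hB := formData Q hQ
  set Z := scalars ι F
  set K := H ⊔ Z
  have hsim := sim_of_iso Q hI
  have hirr' := fun W hW => irred_of_irr hirr (W := W) hW
  have hKnZ : ¬ K ≤ Z := by
    intro hle
    obtain ⟨i₀⟩ : Nonempty ι := inferInstance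
    let W : Submodule F (ι → F) := Submodule.span F {Pi.single i₀ 1}
    have hfr : finrank F W = 1 := finrank_span_singleton (by simp)
    rcases hirr' W (fun g hg w hw => by
      obtain ⟨c, hc⟩ := (mem_scalars_iff g).mp (hle (Subgroup.mem_sup_left hg))
      rw [hc, Matrix.smul_mulVec, Matrix.one_mulVec]
      exact W.smul_mem _ hw) with h | h
    · rw [h, finrank_bot] at hfr; omega
    · rw [h, finrank_top, finrank_pi, hn] at hfr; omega
  have hfull : ∀ N, N ≤ K → NormalisedBy K N → ¬ N ≤ Z → AschRel.Full N := by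
    intro N hNK hN hNZ
    rcases normal_cases hB hsim hNK hirr hN hNZ with ⟨E, hcomm, hnorm, hcl, hbig⟩ | hf |
      ⟨d, e, φA, φC, hd, he, hde, hAC, hirr2, hfA, hfC, hclA, hclC⟩
    · exact absurd (comm_outcome hQ hn hno hH hirr hcomm hnorm hcl hbig) hfield
    · exact hf
    exfalso
    rw [hn] at hde
    have : d ≤ 4 := by
      have : d * 2 ≤ 8 := hde ▸ Nat.mul_le_mul_left d he
      omega
    have hcases : (d = 2 ∧ e = 4) ∨ (d = 4 ∧ e = 2) := by interval_cases d <;> omega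
    exact tensor_false hQ (m := 4) (by omega) (by decide) (by norm_num) hno hI hirr hd he
      (by rcases hcases with ⟨rfl, rfl⟩ | ⟨rfl, rfl⟩ <;> decide)
      (by rcases hcases with ⟨rfl, rfl⟩ | ⟨rfl, rfl⟩ <;> decide)
      (by rcases hcases with ⟨rfl, rfl⟩ | ⟨rfl, rfl⟩ <;> decide)
      φA φC hAC hirr2 hfA hfC hclA hclC
  obtain ⟨M, ⟨hMn, hZM, hMK, hMne⟩, hmin⟩ := exists_minimal_of_wellFoundedLT
    (fun M : Subgroup (GL ι F) => NormalisedBy K M ∧ Z ≤ M ∧ M ≤ K ∧ M ≠ Z)
    ⟨K, fun g hg x hx => mul_mem (mul_mem hg hx) (inv_mem hg), le_sup_right, le_rfl, fun h => hKnZ h.le⟩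
  have hmin' : ∀ N, NormalisedBy K N → Z ≤ N → N ≤ M → N = Z ∨ N = M := fun N h1 h2 h3 => by
    by_cases h : N = Z
    · exact Or.inl h
    · exact Or.inr (le_antisymm h3 (hmin ⟨h1, h2, h3.trans hMK, h⟩ h3))
  have hMnZ : ¬ M ≤ Z := fun h => hMne (le_antisymm h hZM)
  have hKH : ⁅K, K⁆ ≤ H := (commutator_sup_scalars H H).trans (Subgroup.commutator_le_self H)
  by_cases hab : ⁅M, M⁆ ≤ Z
  · exact (abelian_false hQ (m := 4) (by omega) (by decide) (by norm_num) hno hI hMK (hfull M hMK hMn hMnZ) hab).elim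
  rcases nonab_split inferInstance le_sup_left hKH hMK hMn hmin' hfull hab hZM with
    ⟨P, hPM, hPH, hPfull, hnormH, hcore⟩ | ⟨t, d, N, φA, g, ht, hd, hNM, hNp, hrange, hgK, hcom, hirr2, hperm⟩
  swap
  · exfalso
    haveI : Nonempty (Fin d) := ⟨⟨0, by omega⟩⟩
    have hinjA : Function.Injective φA := RingHom.injective φA.toRingHom
    have hclA : ∀ X, st (RingEquiv.refl F) (polarGram Q) (φA X) ∈ Set.range φA := fun X => by
      have h1 := env_closed hB (fun x hx => hsim x (hMK (hNM hx))) (φA X) (hrange ▸ ⟨X, rfl⟩)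
      exact hrange.ge h1
    obtain ⟨G, ν, -, hG, hν⟩ := exists_factor_gram hB (by omega) φA hinjA hclA
    obtain ⟨b, -⟩ := Asch.exists_tensor_basis (fun i => (conjHom (gu (g i))).comp φA) hcom (fun _ => by omega) hirr2
    have hcard := (Module.finrank_eq_card_basis b).symm
    rw [Module.finrank_fintype_fun_eq_card, hn, Fintype.card_fun, Fintype.card_fin, Fintype.card_fin] at hcard
    obtain ⟨rfl, rfl⟩ := pow_eq_eight hd ht hcard
    refine power_false hQ (m := 4) (by omega) (by decide) (by norm_num) hno hI hirr' (d := 2) (t := 3) le_rfl (by decide)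
      (by norm_num) (by norm_num) (fun i => (conjHom (gu (g i))).comp φA) hcom hirr2
      (fun k hk => hperm k (Subgroup.mem_sup_left hk)) G (fun i j => congrFun (congrFun hν i) j) fun i X => ?_
    show st _ _ (conjHom (gu (g i)) (φA X)) = conjHom (gu (g i)) (φA _)
    rw [st_conj hB (hsim _ (hgK i)), hG]
  have hPI : ∀ x ∈ P, ∀ v, Q ((x : Matrix ι ι F) *ᵥ v) = Q v := fun x hx => hI x (hPH hx)
  have hnsub : ∀ F₀ : Subfield F, F₀ ≠ ⊤ → ¬ RealisableOver F₀ (matrixSet P) := by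
    intro F₀ h1 h3
    obtain ⟨F₁, r, Pc, hr, hcard, hHle, hent⟩ := subfield_of_realisable hPfull hnormH h1 h3
    obtain ⟨ζ, hζ, hrat⟩ := quad_rational Q hQ hPfull hPI Pc hent
    rcases hr.eq_two_or_odd' with rfl | hodd
    · by_cases h2 : (2 : F) = 0
      · haveI : CharP F 2 := CharTwo.of_one_ne_zero_of_two_eq_zero one_ne_zero h2
        obtain ⟨U, hU, hUd⟩ := singular_of_index_two Q hQ (m := 4) (by omega) hcard Pc hζ hrat
        exact hno U hU hUd
      · -- the discriminant lies in the subfield, so it is a square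
        let bP : Basis ι F (ι → F) := (Pi.basisFun F ι).map (Matrix.toLin'OfInv
          (M := (Pc⁻¹ : GL ι F).val) (M' := (Pc : Matrix ι ι F)) (Units.inv_mul Pc) (Units.mul_inv Pc))
        have hbP : ∀ i, bP i = (Pc : Matrix ι ι F) *ᵥ Pi.single i 1 := fun i => by
          rw [Module.Basis.map_apply, Pi.basisFun_apply]
          simp only [Matrix.toLin'OfInv]
          exact Matrix.toLin'_apply (Pc : Matrix ι ι F) (Pi.single i 1)
        refine det_not_square hQ (m := 4) (by omega) (by decide) (by norm_num) hno h2 bP ?_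
        let B' : Matrix ι ι F := Matrix.of fun i j => ζ * fQ (bP i) (bP j)
        have hs : ∀ i k, (Pi.single i (1 : F) : ι → F) k ∈ F₁ := fun i k => by
          rw [Pi.single_apply]; split <;> simp [one_mem, zero_mem]
        have hB'm : ∀ i j, B' i j ∈ F₁ := fun i j => by
          show ζ * fQ (bP i) (bP j) ∈ F₁
          rw [← polar_eq_form, hbP, hbP, QuadraticMap.polar, ← Matrix.mulVec_add, mul_sub, mul_sub]
          exact sub_mem (sub_mem (hrat _ fun k => add_mem (hs i k) (hs j k)) (hrat _ (hs i))) (hrat _ (hs j))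
        have hdet : B'.det ∈ F₁ := by
          let M' : Matrix ι ι F₁ := Matrix.of fun i j => ⟨_, hB'm i j⟩
          have hM : (F₁.subtype).mapMatrix M' = B' := by ext i j; rfl
          rw [← hM, ← RingHom.map_det]; exact M'.det.2
        have hsq : IsSquare B'.det := by
          by_cases h0 : B'.det = 0
          · rw [h0]; exact IsSquare.zero
          have hch : ringChar F ≠ 2 := fun h => h2 (by
            haveI : CharP F 2 := ringChar.of_eq h
            exact CharTwo.two_eq_zero)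
          rw [FiniteField.isSquare_iff hch h0, hcard]
          have hq := (mem_subfield_iff_pow F₁).mp hdet
          have hodd' := FiniteField.odd_card_of_char_ne_two hch
          rw [hcard, pow_two, Nat.mul_mod] at hodd'
          have hqodd : Nat.card F₁ % 2 = 1 := by
            rcases Nat.mod_two_eq_zero_or_one (Nat.card F₁) with h | h
            · rw [h] at hodd'; simp at hodd'
            · exact h
          obtain ⟨k, hk⟩ : ∃ k, Nat.card F₁ = 2 * k + 1 := ⟨Nat.card F₁ / 2, by omega⟩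
          rw [hk] at hq ⊢
          have h1 : B'.det ^ (2 * k) = 1 :=
            mul_right_cancel₀ h0 (by rw [← pow_succ, one_mul]; exact hq)
          rw [show (2 * k + 1) ^ 2 / 2 = 2 * k * (k + 1) by
            rw [show (2 * k + 1) ^ 2 = 2 * (2 * k * (k + 1)) + 1 by ring]; omega, pow_mul, h1, one_pow]
        have hfac : (Matrix.of fun x y => fQ (bP x) (bP y)) = ζ⁻¹ • B' := by
          ext i j
          simp only [B', Matrix.smul_apply, Matrix.of_apply, smul_eq_mul]
          rw [← mul_assoc, inv_mul_cancel₀ hζ, one_mul]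
        rw [hfac, Matrix.det_smul, hn]
        exact IsSquare.mul ⟨ζ⁻¹ ^ 4, by ring⟩ hsq
    · exact hsub ⟨F₁, r, Pc, ζ, hr, hodd, hcard, hζ, hrat,
        subgroup_eq_of_le hH hHle (not_le_subfield hQ (by omega) hr hcard Pc)⟩
  refine ⟨P, hcore hnsub, ?_⟩
  rintro ⟨σ, f, hf, hfix⟩
  have h3 : ∀ v x y, f v (x + y) = f v x + f v y := fun v x y => by
    rw [hf.herm, hf.add_left, map_add, ← hf.herm, ← hf.herm]
  have h4 : ∀ (c : F) v x, f v (c • x) = σ c * f v x := fun c v x => by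
    rw [hf.herm, hf.smul_left, map_mul, ← hf.herm]
  have he := eq_matForm hf.add_left hf.smul_left h3 h4
  have hu : IsUnit (gram f).det := isUnit_of_nondeg (σ := σ) (by
    rw [show matForm σ (gram f) = f from funext fun u => funext fun v => (he u v).symm]; exact hf.nondegenerate)
  refine hnsub _ (fixedBy_ne_top hf.ne_refl) (realisable_of_two_forms hPfull hf.ne_refl hf.involutive hB.unit hu
    (fun x hx => ?_) fun x hx => fix_gram fun u v => by rw [← he, ← he]; exact hfix _ ⟨x, hx, rfl⟩ u v)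
  have e := matrix_eq_of_iso (form_iso Q (hPI x hx))
  rwa [show (x : Matrix ι ι F).map (RingEquiv.refl F) = (x : Matrix ι ι F) by ext u v; rfl] at e

end Cfsg.Agent.GeomClasses.OrthEven
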